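import Mathlib

set_option autoImplicit false

namespace Groth.Agent.Lie3BasisLib

universe u v w

variable {K : Type u} [CommRing K] {L : Type v} [LieRing L] [LieAlgebra K L]

/-- A linear equivalence respecting brackets of a basis of three vectors is a Lie equivalence. -/
theorem nonempty_lieEquiv {L' : Type w} [LieRing L'] [LieAlgebra K L'] (e : L ≃ₗ[K] L')
    (b : Module.Basis (Fin 3) K L)
    (h01 : e ⁅b 0, b 1⁆ = ⁅e (b 0), e (b 1)⁆) (h02 : e ⁅b 0, b 2⁆ = ⁅e (b 0), e (b 2)⁆)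
    (h12 : e ⁅b 1, b 2⁆ = ⁅e (b 1), e (b 2)⁆) : Nonempty (L ≃ₗ⁅K⁆ L') := by
  have hsw : ∀ i j, e ⁅b i, b j⁆ = ⁅e (b i), e (b j)⁆ → e ⁅b j, b i⁆ = ⁅e (b j), e (b i)⁆ := by
    intro i j h
    rw [← lie_skew, map_neg, h, lie_skew]
  have hb : ∀ i j, e ⁅b i, b j⁆ = ⁅e (b i), e (b j)⁆ := by
    intro i j
    fin_cases i <;> fin_cases j
    all_goals first
      | (simp; done)
      | exact h01
      | exact h02
      | exact h12
      | exact hsw _ _ h01
      | exact hsw _ _ h02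
      | exact hsw _ _ h12
  refine ⟨{ e with map_lie' := ?_ }⟩
  intro x y
  change e ⁅x, y⁆ = ⁅e x, e y⁆
  rw [← b.sum_repr x, ← b.sum_repr y]
  simp only [sum_lie, lie_sum, map_sum, smul_lie, lie_smul, map_smul, hb, Finset.smul_sum]

/-- bracket in coordinates -/
theorem bracket_eq (e : Module.Basis (Fin 3) K L) (h12 : ⁅e 1, e 2⁆ = 0) (x y : L) :
    ⁅x, y⁆ = (e.repr x 0 * e.repr y 1 - e.repr x 1 * e.repr y 0) • ⁅e 0, e 1⁆ +
      (e.repr x 0 * e.repr y 2 - e.repr x 2 * e.repr y 0) • ⁅e 0, e 2⁆ := by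
  have h10 : ⁅e 1, e 0⁆ = -⁅e 0, e 1⁆ := (lie_skew _ _).symm
  have h20 : ⁅e 2, e 0⁆ = -⁅e 0, e 2⁆ := (lie_skew _ _).symm
  have h21 : ⁅e 2, e 1⁆ = 0 := by rw [← lie_skew, h12, neg_zero]
  conv_lhs => rw [← e.sum_repr x, ← e.sum_repr y]
  simp only [Fin.sum_univ_three, add_lie, lie_add, smul_lie, lie_smul, lie_self, smul_zero, h10, h20, h12, h21,
    add_zero, zero_add]
  module

end Groth.Agent.Lie3BasisLib
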